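import Groth.Agent.Lib.ExtCech.Basic
import Groth.Agent.Lib.FlatCx.Elem

/-!
# Cohomology of the extended Čech complex is killed by powers of the elements
-/

universe u

open CategoryTheory CategoryTheory.Limits CochainComplex

namespace Groth.Agent.Lib.Koszul.ExtCech

open Groth.Agent.Lib.ExtCech

variable {R : Type u} [CommRing R]

theorem locFunctor_map_mk (S : Submonoid R) {M N : ModuleCat.{u} R} (g : M ⟶ N) (a : M) (s : S) :
    ((DerCA.locFunctor S).map g).hom (LocalizedModule.mk a s) =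
      LocalizedModule.mk (g.hom a) s := by
  show IsLocalizedModule.map S (LocalizedModule.mkLinearMap S M)
    (LocalizedModule.mkLinearMap S N) g.hom (LocalizedModule.mk a s) = _
  rw [IsLocalizedModule.mk_eq_mk', IsLocalizedModule.mk_eq_mk', IsLocalizedModule.map_mk']

theorem subsingleton_X_of_gt (M : ModuleCat.{u} R) :
    ∀ (fs : List R) (n : ℤ), (fs.length : ℤ) < n → Subsingleton ((DerCA.extCech M fs).X n)
  | [], n, hn => subsingleton_X_nil M n (by simp at hn; omega)
  | f :: fs, n, hn => ⟨fun x y => by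
      rw [List.length_cons] at hn
      have := subsingleton_X_of_gt M fs n (by omega)
      have := subsingleton_locX (Submonoid.powers f) (subsingleton_X_of_gt M fs (n + -1) (by omega))
      exact cocone_ext (DerCA.locCxUnit (Submonoid.powers f) (DerCA.extCech M fs)) n (n + -1) rfl
        (Subsingleton.elim _ _) (Subsingleton.elim _ _)⟩

/-- The cohomology in degree `q` is killed by powers of `g`. -/
def Kill (K : DRing.Cx R) (g : R) (q : ℤ) : Prop :=
  ∀ x : K.X q, (K.d q (q + 1)).hom x = 0 →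
    ∃ (n : ℕ) (y : K.X (q + -1)), (K.d (q + -1) q).hom y = g ^ n • x

theorem kill_loc (S : Submonoid R) {K : DRing.Cx R} {g : R} {q : ℤ} (h : Kill K g q) :
    Kill ((DerCA.locCx S).obj K) g q := by
  intro x hx
  induction x using LocalizedModule.induction_on with
  | h a s =>
    have hx' : LocalizedModule.mk ((K.d q (q + 1)).hom a) s = 0 :=
      (locFunctor_map_mk S (K.d q (q + 1)) a s).symm.trans hx
    rw [IsLocalizedModule.mk_eq_mk', IsLocalizedModule.mk'_eq_zero'] at hx'
    obtain ⟨c, hc⟩ := hx'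
    obtain ⟨n, y, hy⟩ := h ((c : R) • a) ((map_smul _ _ a).trans hc)
    refine ⟨n, LocalizedModule.mk y (c * s), (locFunctor_map_mk S (K.d (q + -1) q) y (c * s)).trans ?_⟩
    rw [hy, smul_comm, IsLocalizedModule.mk_eq_mk', ← Submonoid.smul_def,
      IsLocalizedModule.mk'_cancel_left, IsLocalizedModule.mk'_smul, ← IsLocalizedModule.mk_eq_mk']
    rfl

/-- The head of the list. -/
theorem kill_head (K : DRing.Cx R) (f : R) (q : ℤ) :
    Kill (mappingCocone (DerCA.locCxUnit (Submonoid.powers f) K)) f q := by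
  intro x hx
  let φ := DerCA.locCxUnit (Submonoid.powers f) K
  have hq : q + -1 + 1 = q := by omega
  have h2 := cs_d φ q (q + 1) (q + -1) rfl rfl x
  rw [hx, map_zero] at h2
  obtain ⟨⟨a, s⟩, hs⟩ := IsLocalizedModule.surj (Submonoid.powers f)
    (LocalizedModule.mkLinearMap (Submonoid.powers f) (K.X (q + -1))) (cs φ q (q + -1) rfl x)
  obtain ⟨n, hn⟩ := s.2
  have hl : f ^ n • cs φ q (q + -1) rfl x = (φ.f (q + -1)).hom a := by
    refine Eq.trans ?_ hs
    exact congrArg (fun c : R => c • cs φ q (q + -1) rfl x) hn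
  have h3 : (φ.f q).hom (f ^ n • cf φ q x + (K.d (q + -1) q).hom a) = 0 := by
    rw [map_add, map_smul, φ_d, ← hl, map_smul, ← smul_add]
    refine (congrArg (f ^ n • ·) ?_).trans (smul_zero (f ^ n))
    rw [← neg_eq_zero, neg_add]
    exact (sub_eq_add_neg _ _).symm.trans h2.symm
  obtain ⟨c, ⟨m, rfl⟩, hm⟩ := (locUnit_eq_zero_iff _ _).1 h3
  refine ⟨m + n, mkPair φ (q + -1) (q + -1 + -1) rfl (-(f ^ m • a)) 0,
    cocone_ext φ q (q + -1) rfl ?_ ?_⟩
  · rw [cf_d, cf_mkPair, map_neg, map_smul, map_smul, pow_add, mul_smul]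
    rw [smul_add] at hm
    exact (eq_neg_of_add_eq_zero_left hm).symm
  · rw [cs_d φ (q + -1) q (q + -1 + -1) hq rfl, cf_mkPair, cs_mkPair, map_zero, sub_zero, map_smul,
      map_neg, neg_neg, map_smul, ← hl, pow_add, mul_smul]

theorem kill_tail {K : DRing.Cx R} {f g : R} {q : ℤ} (h : Kill K g q)
    (h' : Kill ((DerCA.locCx (Submonoid.powers f)).obj K) g (q + -1)) :
    Kill (mappingCocone (DerCA.locCxUnit (Submonoid.powers f) K)) g q := by
  intro x hx
  let φ := DerCA.locCxUnit (Submonoid.powers f) K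
  have hq : q + -1 + 1 = q := by omega
  have h1 : (K.d q (q + 1)).hom (cf φ q x) = 0 := by rw [← cf_d, hx, map_zero]
  have h2 := cs_d φ q (q + 1) (q + -1) rfl rfl x
  rw [hx, map_zero] at h2
  obtain ⟨n, k, hk⟩ := h _ h1
  have h3 : (((DerCA.locCx (Submonoid.powers f)).obj K).d (q + -1) q).hom
      (g ^ n • cs φ q (q + -1) rfl x + (φ.f (q + -1)).hom k) = 0 := by
    rw [map_add, map_smul, ← φ_d, hk, map_smul, ← smul_add]
    refine (congrArg (g ^ n • ·) ?_).trans (smul_zero (g ^ n))
    rw [← neg_eq_zero, neg_add, add_comm]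
    exact (sub_eq_add_neg _ _).symm.trans h2.symm
  have h4 := h' (g ^ n • cs φ q (q + -1) rfl x + (φ.f (q + -1)).hom k)
  rw [hq] at h4
  obtain ⟨m, w, hw⟩ := h4 h3
  refine ⟨m + n, mkPair φ (q + -1) (q + -1 + -1) rfl (g ^ m • k) (-w),
    cocone_ext φ q (q + -1) rfl ?_ ?_⟩
  · rw [cf_d, cf_mkPair, map_smul, hk, map_smul, pow_add, mul_smul]
  · rw [cs_d φ (q + -1) q (q + -1 + -1) hq rfl, cf_mkPair, cs_mkPair, map_smul, map_neg, hw,
      sub_neg_eq_add, smul_add, map_smul, pow_add, mul_smul]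
    abel

theorem kill (M : ModuleCat.{u} R) :
    ∀ (fs : List R) (g : R), g ∈ fs → ∀ q : ℤ, Kill (DerCA.extCech M fs) g q
  | [], g, hg, _ => (List.not_mem_nil hg).elim
  | f :: fs, g, hg, q => by
    rcases List.mem_cons.1 hg with rfl | hg
    · exact kill_head _ _ q
    · exact kill_tail (kill M fs g hg q) (kill_loc _ (kill M fs g hg _))

theorem exists_common (M : ModuleCat.{u} R) (fs : List R) (q : ℤ)
    (x : DerCA.extCechH fs M q) : ∀ g ∈ fs, ∃ n : ℕ, g ^ n • x = 0 := by
  intro g hg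
  obtain ⟨z, rfl⟩ := Groth.Agent.Lib.FlatCx.Elem.cls_surjective
    (show (ComplexShape.up ℤ).next q = q + 1 by simp) x
  obtain ⟨n, y, hy⟩ := kill M fs g hg q z.1 z.2
  refine ⟨n, ?_⟩
  rw [← map_smul, Groth.Agent.Lib.FlatCx.Elem.cls_eq_zero_iff
    (show (ComplexShape.up ℤ).prev q = q + -1 from (ComplexShape.up ℤ).prev_eq' (by simp))]
  exact ⟨y, hy⟩

/-- If an element of the ideal acts bijectively, the complex is exact. -/
theorem exAt_of_mem_span (M : ModuleCat.{u} R) (fs : List R) {f : R}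
    (hf : f ∈ Ideal.span {a : R | a ∈ fs}) (hb : Function.Bijective fun m : M => f • m) (q : ℤ) :
    ExAt (DerCA.extCech M fs) q := by
  intro x hx
  let J : Ideal R :=
    (LinearMap.range ((DerCA.extCech M fs).d (q + -1) q).hom).colon ({x} : Set _)
  have hle : Ideal.span {a : R | a ∈ fs} ≤ J.radical := Ideal.span_le.2 fun g hg => by
    obtain ⟨n, y, hy⟩ := kill M fs g hg q x hx
    exact ⟨n, Submodule.mem_colon_singleton.2 ⟨y, hy⟩⟩
  obtain ⟨n, hn⟩ := hle hf
  obtain ⟨y, hy⟩ := Submodule.mem_colon_singleton.1 hn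
  have hp : ∀ (p : ℤ), Function.Bijective fun z : (DerCA.extCech M fs).X p => f ^ n • z :=
    smul_bijective_X M (by
      clear hn hy
      induction n with
      | zero => simp only [pow_zero, one_smul]; exact Function.bijective_id
      | succ k ih => simp only [pow_succ, mul_smul]; exact ih.comp hb) fs
  obtain ⟨y', rfl⟩ := (hp (q + -1)).2 y
  exact ⟨y', (hp q).1 ((map_smul _ _ _).symm.trans hy)⟩

end Groth.Agent.Lib.Koszul.ExtCech
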