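import Groth.Agent.Lib.ExtCech.Basic
import Mathlib.Algebra.Homology.HomotopyCategory.Pretriangulated
import Mathlib.Algebra.Homology.HomotopyCategory.Shift
import Mathlib.CategoryTheory.Triangulated.Pretriangulated

/-!
# Contractibility of the extended Čech complex when an element is a unit
-/

universe u

open CategoryTheory CategoryTheory.Limits CochainComplex CategoryTheory.Pretriangulated

namespace Groth.Agent.Lib.Koszul.ExtCech.Contract

open Groth.Agent.Lib.ExtCech

variable {R : Type u} [CommRing R]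

/-- Zero in the homotopy category. -/
def Contr (K : DRing.Cx R) : Prop :=
  IsZero ((HomotopyCategory.quotient (ModuleCat.{u} R) (ComplexShape.up ℤ)).obj K)

theorem contr_iff (K : DRing.Cx R) : Contr K ↔ Nonempty (Homotopy (𝟙 K) 0) := by
  refine ⟨fun h => ⟨HomotopyCategory.homotopyOfEq _ _ (h.eq_of_src _ _)⟩, fun ⟨H⟩ => ?_⟩
  rw [Contr, IsZero.iff_id_eq_zero, ← (HomotopyCategory.quotient _ _).map_id,
    HomotopyCategory.eq_of_homotopy _ _ H]
  exact (HomotopyCategory.quotient _ _).map_zero _ _

theorem contr_loc (S : Submonoid R) {K : DRing.Cx R} (h : Contr K) :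
    Contr ((DerCA.locCx S).obj K) := by
  obtain ⟨H⟩ := (contr_iff K).1 h
  refine (contr_iff _).2 ⟨?_⟩
  exact ((Homotopy.ofEq ((DerCA.locCx S).map_id K).symm).trans
    ((DerCA.locFunctor S).mapHomotopy H)).trans (Homotopy.ofEq ((DerCA.locCx S).map_zero _ _))

theorem contr_shift {K : DRing.Cx R} (n : ℤ) (h : Contr K) : Contr (K⟦n⟧) :=
  IsZero.of_iso (Functor.map_isZero (CategoryTheory.shiftFunctor _ n) h)
    (((HomotopyCategory.quotient (ModuleCat.{u} R) (ComplexShape.up ℤ)).commShiftIso n).app K)

theorem contr_cocone_of_isIso {K L : DRing.Cx R} (φ : K ⟶ L) [IsIso φ] :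
    Contr (mappingCocone φ) :=
  contr_shift (-1) ((mappingCone.triangleh φ).isZero₃_of_isIso₁
    (HomotopyCategory.mappingCone_triangleh_distinguished φ)
    (inferInstanceAs (IsIso ((HomotopyCategory.quotient _ _).map φ))))

theorem contr_cocone {K L : DRing.Cx R} (φ : K ⟶ L) (hK : Contr K) (hL : Contr L) :
    Contr (mappingCocone φ) :=
  contr_shift (-1) ((mappingCone.triangleh φ).isZero₃_of_isZero₁₂
    (HomotopyCategory.mappingCone_triangleh_distinguished φ) hK hL)

theorem contr_extCech (M : ModuleCat.{u} R) :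
    ∀ fs : List R, (∃ f ∈ fs, IsUnit f) → Contr (DerCA.extCech M fs)
  | [], h => by obtain ⟨f, hf, -⟩ := h; exact (List.not_mem_nil hf).elim
  | f :: fs, h => by
    obtain ⟨g, hg, hu⟩ := h
    rcases List.mem_cons.1 hg with rfl | hg
    · have : ∀ n, IsIso ((DerCA.locCxUnit (Submonoid.powers g) (DerCA.extCech M fs)).f n) :=
        fun n => (ConcreteCategory.isIso_iff_bijective _).2 (locUnit_bijective (by
          obtain ⟨v, rfl⟩ := hu
          exact ⟨fun a b h => by simpa [smul_smul] using congrArg ((↑v⁻¹ : R) • ·) h,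
            fun b => ⟨(↑v⁻¹ : R) • b, by simp [smul_smul]⟩⟩))
      have := HomologicalComplex.Hom.isIso_of_components
        (DerCA.locCxUnit (Submonoid.powers g) (DerCA.extCech M fs))
      exact contr_cocone_of_isIso _
    · exact contr_cocone _ (contr_extCech M fs ⟨g, hg, hu⟩)
        (contr_loc _ (contr_extCech M fs ⟨g, hg, hu⟩))

end Groth.Agent.Lib.Koszul.ExtCech.Contract
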