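import Groth.Agent.Lib.Koszul.ExtCech.Kills
import Groth.Agent.Lib.Koszul.Basic

/-!
# The extended Čech complex of a Koszul-regular sequence
-/

universe u

open CategoryTheory CategoryTheory.Limits CochainComplex

namespace Groth.Agent.Lib.Koszul.ExtCech.KoszulReg

open Groth.Agent.Lib.FlatCx Groth.Agent.Lib.Koszul.Cone Groth.Agent.Lib.Koszul.SmulCone
  Groth.Agent.Lib.Koszul.Basic

variable {A : Type u} [CommRing A]

section Functor

variable {B C D : CochainComplex (ModuleCat.{u} A) ℤ}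

theorem map_f_cmk (g : B ⟶ C) (f : A) (l : List A) (i : ℤ) (a : (koszulOn B l).X (i + 1))
    (b : (koszulOn B l).X i) :
    (koszulOnMap g (f :: l)).f i (cmk (f • 𝟙 (koszulOn B l)) i (i + 1) rfl (a, b)) =
      cmk (f • 𝟙 (koszulOn C l)) i (i + 1) rfl
        ((koszulOnMap g l).f (i + 1) a, (koszulOnMap g l).f i b) :=
  map_cmk _ _ (koszulOnMap g l) (koszulOnMap g l) (by simp) i (i + 1) rfl a b

theorem injective_map (g : B ⟶ C) (hg : ∀ i, Function.Injective (g.f i)) :
    ∀ (l : List A) (i : ℤ), Function.Injective ((koszulOnMap g l).f i)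
  | [], i => hg i
  | f :: l, i => fun x y h => by
    obtain ⟨⟨a, b⟩, rfl⟩ := cmk_surjective (f • 𝟙 (koszulOn B l)) i (i + 1) rfl x
    obtain ⟨⟨a', b'⟩, rfl⟩ := cmk_surjective (f • 𝟙 (koszulOn B l)) i (i + 1) rfl y
    rw [map_f_cmk, map_f_cmk] at h
    have h1 := congrArg (cfst (f • 𝟙 (koszulOn C l)) i (i + 1) rfl) h
    have h2 := congrArg (csnd (f • 𝟙 (koszulOn C l)) i) h
    rw [cfst_cmk, cfst_cmk] at h1
    rw [csnd_cmk, csnd_cmk] at h2
    rw [injective_map g hg l _ h1, injective_map g hg l _ h2]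

theorem surjective_map (g : B ⟶ C) (hg : ∀ i, Function.Surjective (g.f i)) :
    ∀ (l : List A) (i : ℤ), Function.Surjective ((koszulOnMap g l).f i)
  | [], i => hg i
  | f :: l, i => fun z => by
    obtain ⟨⟨a', b'⟩, rfl⟩ := cmk_surjective (f • 𝟙 (koszulOn C l)) i (i + 1) rfl z
    obtain ⟨a, rfl⟩ := surjective_map g hg l _ a'
    obtain ⟨b, rfl⟩ := surjective_map g hg l _ b'
    exact ⟨_, map_f_cmk g f l i a b⟩

theorem exact_map (g : B ⟶ C) (g' : C ⟶ D)
    (he : ∀ i, Function.Exact (g.f i) (g'.f i)) :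
    ∀ (l : List A) (i : ℤ),
      Function.Exact ((koszulOnMap g l).f i) ((koszulOnMap g' l).f i)
  | [], i => he i
  | f :: l, i => fun z => by
    obtain ⟨⟨a, b⟩, rfl⟩ := cmk_surjective (f • 𝟙 (koszulOn C l)) i (i + 1) rfl z
    constructor
    · intro hz
      rw [map_f_cmk] at hz
      have h1 := congrArg (cfst (f • 𝟙 (koszulOn D l)) i (i + 1) rfl) hz
      have h2 := congrArg (csnd (f • 𝟙 (koszulOn D l)) i) hz
      rw [cfst_cmk] at h1
      rw [csnd_cmk] at h2
      obtain ⟨a₀, rfl⟩ := (exact_map g g' he l _ a).1 (h1.trans (map_zero _))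
      obtain ⟨b₀, rfl⟩ := (exact_map g g' he l _ b).1 (h2.trans (map_zero _))
      exact ⟨_, map_f_cmk g f l i a₀ b₀⟩
    · rintro ⟨w, hw⟩
      obtain ⟨⟨a₀, b₀⟩, rfl⟩ := cmk_surjective (f • 𝟙 (koszulOn B l)) i (i + 1) rfl w
      rw [map_f_cmk] at hw
      rw [← hw, map_f_cmk, (exact_map g g' he l _ _).2 ⟨a₀, rfl⟩,
        (exact_map g g' he l _ _).2 ⟨b₀, rfl⟩]
      exact map_zero _

theorem smul_bijective {f : A} (hf : ∀ i, Function.Bijective fun x : B.X i => f • x) :
    ∀ (l : List A) (i : ℤ), Function.Bijective fun x : (koszulOn B l).X i => f • x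
  | [], i => hf i
  | g :: l, i => by
    refine ⟨fun x y h => ?_, fun z => ?_⟩
    · exact ext (g • 𝟙 (koszulOn B l)) (rfl : i + 1 = i + 1)
        ((smul_bijective hf l _).1 ((map_smul (cfst (g • 𝟙 (koszulOn B l)) i (i + 1) rfl) f x).symm.trans
          ((congrArg (cfst (g • 𝟙 (koszulOn B l)) i (i + 1) rfl) h).trans (map_smul _ f y))))
        ((smul_bijective hf l _).1 ((map_smul (csnd (g • 𝟙 (koszulOn B l)) i) f x).symm.trans
          ((congrArg (csnd (g • 𝟙 (koszulOn B l)) i) h).trans (map_smul _ f y))))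
    · obtain ⟨⟨a', b'⟩, rfl⟩ := cmk_surjective (g • 𝟙 (koszulOn B l)) i (i + 1) rfl z
      obtain ⟨a, rfl⟩ := (smul_bijective hf l _).2 a'
      obtain ⟨b, rfl⟩ := (smul_bijective hf l _).2 b'
      exact ⟨cmk (g • 𝟙 (koszulOn B l)) i (i + 1) rfl (a, b), (map_smul _ f (a, b)).symm⟩

/-- Exactness at a degree. -/
def Ex (K : CochainComplex (ModuleCat.{u} A) ℤ) (i : ℤ) : Prop :=
  ∀ x : K.X i, K.d i (i + 1) x = 0 → ∃ y, K.d (i - 1) i y = x

theorem ex_iff (K : CochainComplex (ModuleCat.{u} A) ℤ) (i : ℤ) :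
    Ex K i ↔ IsZero (K.homology i) :=
  (Elem.isZero_homology_iff (prev_up i) (next_up i)).symm

theorem ex_of_smul_bijective (l : List A) {f : A} (hl : f ∈ Ideal.span {x | x ∈ l})
    (hf : ∀ i, Function.Bijective fun x : B.X i => f • x) (i : ℤ) : Ex (koszulOn B l) i := by
  intro x hx
  obtain ⟨x', rfl⟩ := (smul_bijective hf l i).2 x
  have hx' : (koszulOn B l).d i (i + 1) x' = 0 :=
    (smul_bijective hf l (i + 1)).1
      (((map_smul _ _ _).symm.trans hx).trans (smul_zero f).symm)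
  have h := smul_homology_eq_zero_of_mem_span B l hl i (Elem.cls (next_up i) ⟨x', hx'⟩)
  rw [← map_smul, Elem.cls_eq_zero_iff (prev_up i) (next_up i)] at h
  exact h

theorem ex_middle (g : B ⟶ C) (g' : C ⟶ D) (hi : ∀ i, Function.Injective (g.f i))
    (hs : ∀ i, Function.Surjective (g'.f i)) (he : ∀ i, Function.Exact (g.f i) (g'.f i))
    (l : List A) (i : ℤ) (hB : Ex (koszulOn B l) i) (hD : Ex (koszulOn D l) i) :
    Ex (koszulOn C l) i := by
  intro x hx
  obtain ⟨y, hy⟩ := hD ((koszulOnMap g' l).f i x) (by rw [f_d, hx, map_zero])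
  obtain ⟨y', rfl⟩ := surjective_map g' hs l _ y
  obtain ⟨w, hw⟩ := (exact_map g g' he l i (x - (koszulOn C l).d (i - 1) i y')).1 (by
    rw [map_sub, ← f_d, hy, sub_self])
  obtain ⟨v, hv⟩ := hB w (injective_map g hi l _ (by
    rw [← f_d, hw, map_sub, hx, d_d, sub_zero, map_zero]))
  exact ⟨y' + (koszulOnMap g l).f (i - 1) v, by rw [map_add, f_d, hv, hw, add_sub_cancel]⟩

end Functor

section Cech

open Groth.Agent.Lib.ExtCech

variable (M : ModuleCat.{u} A)

theorem ex_koszulOn_cocone {K L : DRing.Cx A} (φ : K ⟶ L) (l : List A) (i : ℤ) {f : A}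
    (hl : f ∈ Ideal.span {x | x ∈ l}) (hf : ∀ i, Function.Bijective fun x : L.X i => f • x)
    (hK : Ex (koszulOn K l) i) : Ex (koszulOn (mappingCocone φ) l) i := by
  have hZ : ∀ n : ℤ, Subsingleton
      ((HomologicalComplex.zero : DRing.Cx A).X n) := fun n =>
    ModuleCat.subsingleton_of_isZero (isZero_zero _)
  let φ₀ : (HomologicalComplex.zero : DRing.Cx A) ⟶ L := 0
  let j : mappingCocone φ₀ ⟶ mappingCocone φ :=
    coconeMap φ₀ φ 0 (𝟙 L) (by simp [φ₀])
  have hj : ∀ (q : ℤ) (x), cf φ q ((j.f q).hom x) = 0 := fun q x => by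
    rw [cf_coconeMap]; rfl
  have hj' : ∀ (q : ℤ) (x), cs φ q (q + -1) rfl ((j.f q).hom x) = cs φ₀ q (q + -1) rfl x :=
    fun q x => by rw [cs_coconeMap]; rfl
  refine ex_middle j (mappingCocone.fst φ) (fun q x y h => ?_) (fun q k => ?_) (fun q x => ?_) l i
    (ex_of_smul_bijective l hl (fun q => ⟨fun x y h => ?_, fun y => ?_⟩) i) hK
  · refine cocone_ext φ₀ q (q + -1) rfl (@Subsingleton.elim _ (hZ q) _ _) ?_
    rw [← hj', ← hj']
    exact congrArg _ h
  · exact ⟨mkPair φ q _ rfl k 0, cf_mkPair φ q _ rfl k 0⟩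
  · refine ⟨fun hx => ⟨mkPair φ₀ q (q + -1) rfl 0 (cs φ q (q + -1) rfl x),
      cocone_ext φ q (q + -1) rfl ((hj q _).trans hx.symm) ((hj' q _).trans (cs_mkPair _ _ _ _ _ _))⟩,
      fun ⟨w, hw⟩ => ?_⟩
    rw [← hw]
    exact hj q w
  · refine cocone_ext φ₀ q (q + -1) rfl (@Subsingleton.elim _ (hZ q) _ _) ((hf _).1 ?_)
    exact (map_smul (cs φ₀ q (q + -1) rfl) f x).symm.trans
      ((congrArg (cs φ₀ q (q + -1) rfl) h).trans (map_smul _ f y))
  · obtain ⟨w, hw⟩ := (hf (q + -1)).2 (cs φ₀ q (q + -1) rfl y)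
    refine ⟨mkPair φ₀ q _ rfl 0 w,
      cocone_ext φ₀ q (q + -1) rfl (@Subsingleton.elim _ (hZ q) _ _) ?_⟩
    exact (map_smul (cs φ₀ q (q + -1) rfl) f _).trans
      ((congrArg (f • ·) (cs_mkPair φ₀ q _ rfl 0 w)).trans hw)

theorem ex_koszulOn_extCech (l : List A) (i : ℤ) (h : Ex (koszulOn (sgl M) l) i) :
    ∀ fs : List A, (∀ f ∈ fs, f ∈ Ideal.span {x | x ∈ l}) →
      Ex (koszulOn (DerCA.extCech M fs) l) i
  | [], _ => h
  | f :: fs, hfs => ex_koszulOn_cocone _ l i (hfs f (by simp))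
      (fun n => smul_bijective_loc_self f ((DerCA.extCech M fs).X n))
      (ex_koszulOn_extCech l i h fs fun g hg => hfs g (by simp [hg]))

end Cech

/-- The lowest class of the Koszul complex of a complex. -/
theorem lowest (C : CochainComplex (ModuleCat.{u} A) ℤ) (q : ℤ)
    (hC : ∀ j < q, Subsingleton (C.homology j)) : ∀ l : List A,
    (∀ i : ℤ, i < q - l.length → Subsingleton ((koszulOn C l).homology i)) ∧
      ∀ h : C.homology q, h ≠ 0 → (∀ a ∈ l, a • h = 0) → ∀ t : ℤ, t = q - l.length →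
        ∃ z : (koszulOn C l).homology t, z ≠ 0 ∧ ∀ a : A, a • h = 0 → a • z = 0
  | [] => ⟨fun i hi => hC i (by simpa using hi), fun h hh _ t ht => by
      obtain rfl : t = q := by simpa using ht
      exact ⟨h, hh, fun _ ha => ha⟩⟩
  | f :: l => by
    obtain ⟨h1, h2⟩ := lowest C q hC l
    refine ⟨fun i hi => ?_, fun h hh hl t ht => ?_⟩
    · rw [List.length_cons] at hi
      exact ModuleCat.isZero_iff_subsingleton.1 (isZero_homology_of_isZero f (koszulOn C l) i
        (ModuleCat.isZero_iff_subsingleton.2 (h1 i (by omega)))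
        (ModuleCat.isZero_iff_subsingleton.2 (h1 (i + 1) (by omega))))
    · rw [List.length_cons] at ht
      obtain ⟨z, hz, hza⟩ := h2 h hh (fun a ha => hl a (by simp [ha])) (t + 1) (by omega)
      obtain ⟨y, hy⟩ := (range_outH f (koszulOn C l) t z).2 (hza f (hl f (by simp)))
      have hinj : Function.Injective (outH f (koszulOn C l) t) := by
        rw [injective_iff_map_eq_zero]
        intro w hw
        obtain ⟨v, rfl⟩ := (exact_inH_outH f (koszulOn C l) t w).1 hw
        have := h1 t (by omega)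
        rw [Subsingleton.elim v 0, map_zero]
      show ∃ y : (smulCone f (koszulOn C l)).homology t, y ≠ 0 ∧ ∀ a : A, a • h = 0 → a • y = 0
      refine ⟨y, fun h => hz (by rw [← hy, h]; exact map_zero _), fun a ha => hinj ?_⟩
      rw [map_zero, map_smul, hy, hza a ha]

/-- Find a nonzero multiple killed by a finite list, given torsion. -/
theorem exists_killed {H : Type u} [AddCommGroup H] [Module A H] (l : List A) (x : H) (hx : x ≠ 0)
    (ht : ∀ f ∈ l, ∃ n : ℕ, f ^ n • x = 0) :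
    ∃ y : H, y ≠ 0 ∧ ∀ f ∈ l, f • y = 0 := by
  suffices ∃ a : A, a • x ≠ 0 ∧ ∀ f ∈ l, f • a • x = 0 from ⟨_, this.choose_spec⟩
  induction l with
  | nil => exact ⟨1, by rwa [one_smul], fun f hf => (List.not_mem_nil hf).elim⟩
  | cons f l ih =>
    obtain ⟨a, ha, hla⟩ := ih fun g hg => ht g (by simp [hg])
    classical
    have hex : ∃ n : ℕ, f ^ n • a • x = 0 := by
      obtain ⟨n, hn⟩ := ht f (by simp)
      exact ⟨n, by rw [smul_comm, hn, smul_zero]⟩
    obtain ⟨k, hk⟩ : ∃ k, Nat.find hex = k + 1 := by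
      refine Nat.exists_eq_succ_of_ne_zero fun h0 => ha ?_
      have := Nat.find_spec hex
      rwa [h0, pow_zero, one_smul] at this
    refine ⟨f ^ k * a, by rw [mul_smul]; exact Nat.find_min hex (by omega), fun g hg => ?_⟩
    rw [mul_smul]
    rcases List.mem_cons.1 hg with rfl | hg
    · rw [smul_smul, ← pow_succ', ← hk]
      exact Nat.find_spec hex
    · rw [smul_comm g (f ^ k), hla g hg, smul_zero]

theorem isZero_extCechH (M : ModuleCat.{u} A) (fs : List A)
    (hreg : ∀ i : ℤ, i ≠ 0 → IsZero ((koszulOn (sgl M) fs).homology i)) (q : ℕ)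
    (hq : q < fs.length) : IsZero (DerCA.extCechH fs M (q : ℤ)) := by
  induction q using Nat.strong_induction_on with
  | _ q ih =>
    rw [ModuleCat.isZero_iff_subsingleton]
    suffices h : ∀ x : DerCA.extCechH fs M (q : ℤ), x = 0 from ⟨fun a b => by rw [h a, h b]⟩
    intro x
    by_contra hx
    obtain ⟨y, hy, hly⟩ := exists_killed fs x hx (exists_common M fs q x)
    have hlow : ∀ j < (q : ℤ), Subsingleton ((DerCA.extCech M fs).homology j) := fun j hj => by
      rcases lt_or_ge j 0 with hj' | hj'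
      · refine ModuleCat.isZero_iff_subsingleton.1 ((Groth.Agent.Lib.ExtCech.exAt_iff _ j).1 fun z _ => ?_)
        have := Groth.Agent.Lib.ExtCech.subsingleton_X_of_neg M fs j hj'
        exact ⟨0, Subsingleton.elim _ _⟩
      · lift j to ℕ using hj'
        exact ModuleCat.isZero_iff_subsingleton.1 (ih j (by omega) (by omega))
    obtain ⟨z, hz, -⟩ := (lowest _ (q : ℤ) hlow fs).2 y hy hly _ rfl
    have := ModuleCat.isZero_iff_subsingleton.1 ((ex_iff _ _).1
      (ex_koszulOn_extCech M fs ((q : ℤ) - fs.length) ((ex_iff _ _).2 (hreg _ (by omega))) fs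
        (fun f hf => Ideal.subset_span hf)))
    exact hz (Subsingleton.elim _ _)

end Groth.Agent.Lib.Koszul.ExtCech.KoszulReg
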